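import Groth.Agent.S0357
import Groth.Agent.CohqA.AffineVanish
import Groth.Agent.CohqA.HOpen
import Groth.Agent.CohqB.LocalQC
import Groth.Agent.Fga.DimLt
import Groth.Agent.Sga4h.CurveHat410
import Groth.Agent.Ega1.GenPts
import Groth.Agent.Sga4B.SmoothNormal

/-!
# A smooth divisor with affine complement is connected

The argument: if the closed complement of an affine open of a connected smooth proper scheme of
dimension `d ≥ 2` were disconnected, Mayer-Vietoris for the complements of the two pieces and
Lichtenbaum's theorem would give the vanishing of all top degree coherent cohomology.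
-/

set_option autoImplicit false
universe u

open AlgebraicGeometry CategoryTheory TopologicalSpace

namespace K883.ConnDiv

variable {L : Type u} [Field L] {X : Scheme.{u}}

/-- A connected smooth scheme over a field is irreducible. -/
theorem irreducibleSpace_of_smooth (f : X ⟶ Spec (CommRingCat.of L)) [Smooth f]
    [ConnectedSpace X] : IrreducibleSpace X := by
  have h1 : IsLocallyNoetherian X := LocallyOfFiniteType.isLocallyNoetherian f
  have h2 : IsIntegral X := by
    rw [Groth.Agent.Ega1.GenPts.isIntegral_iff]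
    exact ⟨inferInstance, fun x =>
      (Groth.Agent.Sga4B.SmoothNormal.isNormalScheme_of_smooth f x).1⟩
  infer_instance

/-- Mayer-Vietoris vanishing. -/
theorem subsingleton_of_cover (M : X.Modules) (hM : Coh.IsQCoh M) {V W : X.Opens}
    (hcov : V ⊔ W = ⊤) (hU : IsAffineOpen (V ⊓ W)) (n : ℕ) (hn : 0 < n)
    (h1 : Subsingleton (Coh.HHon X M V (n + 1))) (h2 : Subsingleton (Coh.HHon X M W (n + 1))) :
    Subsingleton (Coh.HH X M (n + 1)) := by
  have e1 : Subsingleton (CohTop.HU (X := X.toTopCat) (Coh.toAb M) (n + 1) V) :=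
    (Groth.Agent.CohqA.HOpen.HHonEquiv M V (n + 1)).toEquiv.subsingleton
  have e2 : Subsingleton (CohTop.HU (X := X.toTopCat) (Coh.toAb M) (n + 1) W) :=
    (Groth.Agent.CohqA.HOpen.HHonEquiv M W (n + 1)).toEquiv.subsingleton
  have e3 : Subsingleton (Groth.Agent.CohqA.SheafH.HU (Coh.toAb M) n (V ⊓ W)) :=
    Groth.Agent.CohqA.AffineVanish.HU_subsingleton M n hn _ hU
  let S : (Opens.grothendieckTopology X).MayerVietorisSquare :=
    Opens.mayerVietorisSquare'
      { X₁ := V ⊓ W
        X₂ := V
        X₃ := W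
        X₄ := ⊤
        f₁₂ := homOfLE inf_le_left
        f₁₃ := homOfLE inf_le_right
        f₂₄ := homOfLE le_top
        f₃₄ := homOfLE le_top
        fac := Subsingleton.elim _ _ } hcov.symm rfl
  have e4 : Subsingleton (Groth.Agent.CohqA.SheafH.HU (Coh.toAb M) (n + 1) (⊤ : Opens X)) := by
    refine ⟨fun x y => ?_⟩
    have key : ∀ x : Groth.Agent.CohqA.SheafH.HU (Coh.toAb M) (n + 1) (⊤ : Opens X), x = 0 := by
      intro x
      refine Groth.Agent.CohqA.SheafH.eq_zero_of_mayerVietoris S (Coh.toAb M) n ?_ x ?_ ?_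
      · intro z
        exact ⟨0, 0, e3.elim _ _⟩
      · exact e1.elim _ _
      · exact e2.elim _ _
    rw [key x, key y]
  exact (Groth.Agent.CohqA.SheafH.HEquivHU (Coh.toAb M) (n + 1)
    (Limits.isTerminalTop (α := Opens X))).toEquiv.subsingleton

/-- The top cohomology of a nonempty open subscheme, not everything, of a connected smooth proper
scheme vanishes. -/
theorem subsingleton_open (f : X ⟶ Spec (CommRingCat.of L)) [IsProper f] (d : ℕ)
    [SmoothOfRelativeDimension d f] [ConnectedSpace X] [IrreducibleSpace X] (V : X.Opens)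
    (hV : (V : Set X).Nonempty) (hV' : V ≠ ⊤) (M : X.Modules) (hM : Coh.IsCoh M) :
    Subsingleton (Coh.HHon X M V d) := by
  have hLN : IsLocallyNoetherian X := LocallyOfFiniteType.isLocallyNoetherian f
  have hsm : SmoothOfRelativeDimension d (V.ι ≫ f) := by
    have h : SmoothOfRelativeDimension (0 + d) (V.ι ≫ f) := inferInstance
    rwa [zero_add] at h
  have hne : Nonempty (V : Scheme.{u}) := hV.to_subtype
  have hirr : IrreducibleSpace (V : Scheme.{u}) := by
    have h : IsIrreducible (V : Set X) := ⟨hV, (PreirreducibleSpace.isPreirreducible_univ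
      (X := X)).open_subset V.2 (Set.subset_univ _)⟩
    exact Subtype.irreducibleSpace h
  have hdim : topologicalKrullDim (V : Scheme.{u}) = d :=
    Groth.Agent.Sga4h.CurveHat410.topologicalKrullDim_eq (V.ι ≫ f) d
  have hqc : QuasiCompact (V.ι ≫ f) := inferInstance
  have hlft : LocallyOfFiniteType (V.ι ≫ f) := inferInstance
  refine (Groth.Agent.S0357.result L (V : Scheme.{u}) (V.ι ≫ f) d hdim).2 ?_
    (M.restrict V.ι) (Groth.Agent.CohqB.LocalQC.isCoh_restrict V.ι hM)
  intro Z i hi hZ hZd hprop
  -- the closed subset `Z` is everything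
  have hcl : IsClosed (Set.range i) := i.isClosedEmbedding.isClosed_range
  have huniv : Set.range i = Set.univ := by
    by_contra hne
    have h1 : topologicalKrullDim (Set.range i) = d := by
      rw [← hZd]
      exact (i.isClosedEmbedding.isEmbedding.toHomeomorph.isHomeomorph.topologicalKrullDim_eq).symm
    have h2 := Groth.Agent.Fga.DimLt.exists_ltSeries_succ hcl hne (n := d) h1.ge
    rw [hdim] at h2
    norm_cast at h2
    omega
  -- so `V` is closed
  have h3 : IsProper (i ≫ V.ι) := by
    have : IsProper ((i ≫ V.ι) ≫ f) := by rwa [Category.assoc]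
    exact IsProper.of_comp (i ≫ V.ι) f
  have h4 : IsClosed (Set.range (i ≫ V.ι)) := (i ≫ V.ι).isClosedMap.isClosed_range
  have h5 : Set.range (i ≫ V.ι) = (V : Set X) := by
    rw [Scheme.Hom.comp_base, TopCat.coe_comp, Set.range_comp, huniv, Set.image_univ]
    exact V.range_ι
  rw [h5] at h4
  apply hV'
  have h6 : (V : Set X) = Set.univ := IsClopen.eq_univ ⟨h4, V.2⟩ hV
  exact Opens.ext h6

/-- The connectedness theorem. -/
theorem connectedSpace {D : Scheme.{u}} (f : X ⟶ Spec (CommRingCat.of L)) (i : D ⟶ X)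
    [IsProper f] (d : ℕ) (hd : 1 < d) [SmoothOfRelativeDimension d f] [IsClosedImmersion i]
    [ConnectedSpace X] (U : X.Opens) (hU : IsAffineOpen U)
    (hDU : Set.range i.base = (U : Set X)ᶜ) : ConnectedSpace D := by
  have hsm : Smooth f := SmoothOfRelativeDimension.smooth d f
  have hirr : IrreducibleSpace X := irreducibleSpace_of_smooth f
  have hdim : topologicalKrullDim X = d :=
    Groth.Agent.Sga4h.CurveHat410.topologicalKrullDim_eq f d
  have hDne : Nonempty D := by
    by_contra hne
    rw [not_nonempty_iff] at hne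
    have h1 : U = ⊤ := by
      apply Opens.ext
      rw [← compl_compl (U : Set X), ← hDU, Set.range_eq_empty, Set.compl_empty]
      rfl
    subst h1
    have h2 : IsAffine X := by
      have h4 : IsAffine ((⊤ : X.Opens) : Scheme.{u}) := hU
      exact IsAffine.of_isIso X.topIso.inv
    have h3 := Groth.Agent.Sga4h.CurveHat410.topologicalKrullDim_le_zero f
    rw [hdim] at h3
    norm_cast at h3
    omega
  have hpre : PreconnectedSpace D := by
    rw [preconnectedSpace_iff_clopen]
    intro s hs
    by_contra hcon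
    rw [not_or] at hcon
    obtain ⟨hs1, hs2⟩ := hcon
    have hs1' : s.Nonempty := Set.nonempty_iff_ne_empty.2 hs1
    have hs2' : sᶜ.Nonempty := Set.nonempty_compl.2 hs2
    have hinj : Function.Injective i := i.isClosedEmbedding.injective
    let V : X.Opens := ⟨(i '' s)ᶜ, (i.isClosedEmbedding.isClosedMap s hs.1).isOpen_compl⟩
    let W : X.Opens := ⟨(i '' sᶜ)ᶜ,
      (i.isClosedEmbedding.isClosedMap sᶜ hs.compl.1).isOpen_compl⟩
    have hcov : V ⊔ W = ⊤ := by
      apply Opens.ext
      change (i '' s)ᶜ ∪ (i '' sᶜ)ᶜ = Set.univ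
      rw [← Set.compl_inter, ← Set.image_inter hinj, Set.inter_compl_self, Set.image_empty,
        Set.compl_empty]
    have hinf : V ⊓ W = U := by
      apply Opens.ext
      change (i '' s)ᶜ ∩ (i '' sᶜ)ᶜ = U
      rw [← Set.compl_union, ← Set.image_union, Set.union_compl_self, Set.image_univ]
      exact compl_eq_comm.1 hDU.symm
    have hV : (V : Set X).Nonempty := by
      obtain ⟨x, hx⟩ := hs2'
      exact ⟨i x, fun ⟨y, hy, hxy⟩ => hx (hinj hxy ▸ hy)⟩
    have hW : (W : Set X).Nonempty := by
      obtain ⟨x, hx⟩ := hs1'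
      exact ⟨i x, fun ⟨y, hy, hxy⟩ => hy (hinj hxy ▸ hx)⟩
    have hV' : V ≠ ⊤ := by
      intro h
      obtain ⟨x, hx⟩ := hs1'
      have h1 : i x ∈ V := h ▸ (Opens.mem_top (i x))
      exact h1 ⟨x, hx, rfl⟩
    have hW' : W ≠ ⊤ := by
      intro h
      obtain ⟨x, hx⟩ := hs2'
      have h1 : i x ∈ W := h ▸ (Opens.mem_top (i x))
      exact h1 ⟨x, hx, rfl⟩
    obtain ⟨n, rfl⟩ : ∃ n, d = n + 1 := ⟨d - 1, by omega⟩
    have hn : 0 < n := by omega
    have hvan : ∀ M : X.Modules, Coh.IsCoh M → Subsingleton (Coh.HH X M (n + 1)) := by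
      intro M hM
      exact subsingleton_of_cover M hM.1 hcov (hinf ▸ hU) n hn
        (subsingleton_open f (n + 1) V hV hV' M hM) (subsingleton_open f (n + 1) W hW hW' M hM)
    have h1 := (Groth.Agent.S0357.result L X f (n + 1) hdim).1 hvan X (𝟙 X) hdim
    rw [Category.id_comp] at h1
    exact h1 inferInstance
  exact { toPreconnectedSpace := hpre, toNonempty := hDne }

end K883.ConnDiv
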